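import Cfsg.Agent.Coset.G24.Simple
import Cfsg.Agent.Coset.G24.Schur.Data
import Cfsg.Agent.Coset.G24.Schur.CentData

/-!
Five conjugates of the first generator, and the centraliser of that generator, which is generated
by commutators of its elements.
-/

set_option autoImplicit false
set_option maxRecDepth 100000
set_option Elab.async false

namespace CfsgLib.Coset.G24.Schur

open CfsgLib.Coset G24

/-- Two words agree on the base. -/
noncomputable def sameB (v w : List Nat) : Bool :=
  cond (checkLetters 6 [v]) (cond (checkLetters 6 [w])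
    (allList (fun b => Nat.beq (follow (tget G24.Top.Tb) b v) (follow (tget G24.Top.Tb) b w))
      (base.map Fin.val)) false) false

theorem sameB_eq {v w : List Nat} (h : sameB v w = true) : ev Lp v = ev Lp w := by
  obtain ⟨h1, h2⟩ := cond_false_eq_true.mp h
  obtain ⟨h2, h3⟩ := cond_false_eq_true.mp h2
  exact matches_ρ.ev_eq_of_base base_bot (len_Lp.symm ▸ h1) (len_Lp.symm ▸ h2) h3

theorem ev_revP (w : List Nat) : ev Lp w.reverse = (ev Lp w)⁻¹ := by
  induction w with
  | nil => simp
  | cons k w ih =>
    rw [List.reverse_cons, ev_append, ih, ev_cons, ev_cons, ev_nil, mul_one, mul_inv_rev,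
      inv_eq_of_mul_eq_one_right (sq_all k)]

/-- The involution. -/
noncomputable abbrev t : P := fl Lp 0

/-- A word of the five involutions, in the old generators. -/
def expW (w : List Nat) : List Nat := w.flatMap fun l => newW.getD l []

/-- The five involutions. -/
noncomputable def Ln : List P := newW.map (ev Lp)

theorem len_Ln : (Ln).length = 5 := by simp [Ln, newW]

theorem ev_Ln (w : List Nat) : ev Ln w = ev Lp (expW w) := by
  induction w with
  | nil => simp [expW]
  | cons l w ih =>
    rw [ev_cons, ih, show expW (l :: w) = newW.getD l [] ++ expW w from List.flatMap_cons, ev_append]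
    congr 1
    rw [fl, Ln, ← List.getD_map (f := ev Lp), ev_nil]

theorem rels_checkG : allList (fun w => sameB (expW w) []) rels5 = true := by decide +kernel

theorem ev_rels5 : ∀ w ∈ rels5, ev Ln w = 1 := fun w hw => by
  rw [ev_Ln, sameB_eq (allList_iff.mp rels_checkG w hw), ev_nil]

theorem sq5_mem : ∀ l < 5, [l, l] ∈ rels5 := by decide +kernel

theorem sq_Ln (x : Nat) : fl Ln x * fl Ln x = 1 := by
  rcases lt_or_ge x 5 with h | h
  · simpa using ev_rels5 _ (sq5_mem x h)
  · rw [fl_of_le _ (len_Ln.symm ▸ h), mul_one]

theorem gen_check : allBelow 3 6 (fun l => sameB (expW (oldW.getD l [])) [l]) = true := by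
  decide +kernel

theorem closure_Ln : Subgroup.closure {x | x ∈ Ln} = ⊤ := by
  set K := Subgroup.closure {x | x ∈ Ln}
  have hev : ∀ w, ev Ln w ∈ K := fun w => by
    induction w with
    | nil => simp
    | cons l w ih =>
      rw [ev_cons]
      refine mul_mem ?_ ih
      rcases lt_or_ge l Ln.length with h | h
      · rw [fl, List.getD_eq_getElem _ _ h]
        exact Subgroup.subset_closure (List.getElem_mem h)
      · rw [fl_of_le _ h]; exact one_mem _
  rw [eq_top_iff, ← closure_numGens, Subgroup.closure_le]
  intro x hx
  obtain ⟨l, hl, rfl⟩ := List.getElem_of_mem hx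
  have e := sameB_eq (of_allBelow gen_check l (len_Lp ▸ hl))
  rw [← ev_Ln, ev_cons, ev_nil, mul_one, fl, List.getD_eq_getElem _ _ hl] at e
  exact e ▸ hev _

/-! ### The centraliser -/

theorem comm_checks : commL.length = centW.length ∧ checkLetters 6 centW = true ∧
    allBelow 3 4 (fun k =>
      cond (sameB ((commL.getD k ([], [])).1 ++ [0]) ([0] ++ (commL.getD k ([], [])).1))
        (cond (sameB ((commL.getD k ([], [])).2 ++ [0]) ([0] ++ (commL.getD k ([], [])).2))
          (sameB ((commL.getD k ([], [])).1 ++ (commL.getD k ([], [])).2 ++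
            (commL.getD k ([], [])).1.reverse ++ (commL.getD k ([], [])).2.reverse)
            (centW.getD k [])) false) false) = true ∧ centW.length = 4 := by
  refine ⟨?_, ?_, ?_, ?_⟩ <;> decide +kernel

/-- Decode a conjugator. -/
noncomputable def decW : Nat → Nat → List Nat :=
  fun fuel => Nat.rec (fun _ => []) (fun _ ih v => cond (Nat.beq v 0) []
    (Nat.sub (Nat.land v 7) 1 :: ih (Nat.shiftRight v 3))) fuel

/-- The word of a member of the class. -/
noncomputable def classW (i : Nat) : List Nat :=
  decW 24 (Nat.land (ConjCode i) 4722366482869645213695) ++ [0] ++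
    (decW 24 (Nat.land (ConjCode i) 4722366482869645213695)).reverse

/-- The code of an element on the base. -/
noncomputable def keyW (w : List Nat) : Nat :=
  (base.map Fin.val).foldl
    (fun a b => Nat.add (Nat.mul a 512) (follow (tget G24.Top.Tb) b w)) 0

theorem class_ok : allBelow 12 4095 (fun i => cond (checkLetters 6 [classW i])
    (cond (Nat.beq (Nat.add i 1) 4095) true
      (Nat.blt (keyW (classW i)) (keyW (classW (Nat.add i 1))))) false) = true := by decide +kernel

theorem index_centralizer : 4095 ≤ (Subgroup.centralizer ({t} : Set P)).index := by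
  have := card_le.1
  let cj : Fin 4095 → P := fun i =>
    ev Lp (decW 24 (Nat.land (ConjCode i.val) 4722366482869645213695))
  let f : Fin 4095 → P ⧸ Subgroup.centralizer ({t} : Set P) := fun i => QuotientGroup.mk (cj i)
  have hlt : ∀ i j : Nat, i < j → j < 4095 → keyW (classW i) < keyW (classW j) := by
    intro i j hij hj
    induction j with
    | zero => omega
    | succ j ih =>
      have h := (cond_false_eq_true.mp (of_allBelow class_ok j (by omega))).2
      have hne : Nat.beq (Nat.add j 1) 4095 = false := by
        rw [Bool.eq_false_iff, ne_eq, Nat.beq_eq, Nat.add_eq]; omega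
      rw [hne, cond_false] at h
      have h' : keyW (classW j) < keyW (classW (j + 1)) := Nat.blt_eq.mp h
      rcases Nat.lt_or_ge i j with h'' | h''
      · exact (ih h'' (by omega)).trans h'
      · rwa [show i = j by omega]
  have hf : Function.Injective f := by
    intro i j h
    have h := Subgroup.mem_centralizer_singleton_iff.mp (QuotientGroup.eq.mp h)
    have e : ev Lp (classW i.val) = ev Lp (classW j.val) := by
      simp only [classW, ev_append, ev_revP, ev_cons, ev_nil, mul_one]
      show cj i * t * (cj i)⁻¹ = cj j * t * (cj j)⁻¹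
      calc cj i * t * (cj i)⁻¹ = cj i * (t * ((cj i)⁻¹ * cj j)) * (cj j)⁻¹ := by group
        _ = cj i * (((cj i)⁻¹ * cj j) * t) * (cj j)⁻¹ := by rw [h]
        _ = cj j * t * (cj j)⁻¹ := by group
    have hl : ∀ k : Fin 4095, ∀ l ∈ classW k.val, l < (Lp).length := fun k l hl => by
      rw [len_Lp]
      exact letters_lt (cond_false_eq_true.mp (of_allBelow class_ok k.val k.isLt)).1 _
        (List.mem_singleton_self _) l hl
    have hk : keyW (classW i.val) = keyW (classW j.val) := by
      have hb : ∀ b : Fin 416, follow (tget G24.Top.Tb) b (classW i.val) =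
          follow (tget G24.Top.Tb) b (classW j.val) := fun b => by
        rw [← matches_ρ.follow_eq _ b (hl i), ← matches_ρ.follow_eq _ b (hl j), e]
      simp only [keyW, base, List.map_cons, List.map_nil, List.foldl_cons, List.foldl_nil, hb]
    rcases lt_trichotomy i.val j.val with hij | hij | hij
    · exact absurd hk (hlt _ _ hij j.2).ne
    · exact Fin.ext hij
    · exact absurd hk (hlt _ _ hij i.2).ne'
  simpa [Subgroup.index] using Nat.card_le_card_of_injective f hf

/-- The subgroup generated by the commutators. -/
noncomputable def K0 : Subgroup P := Subgroup.closure {x | x ∈ centW.map (ev Lp)}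

/-- Expand a word in the commutators and their inverses. -/
def flatI (v : List Nat) : List Nat :=
  v.flatMap fun x => (centW ++ centW.map List.reverse).getD x []

theorem flat_letters : checkLetters 6 (C0I.map flatI) = true ∧ checkLetters 6 (C1I.map flatI) = true ∧
    checkLetters 6 (C2I.map flatI) = true := by
  refine ⟨?_, ?_, ?_⟩ <;> decide +kernel

theorem card_K0 : 61440 ≤ Nat.card K0 := by
  have := card_le.1
  have hmem : ∀ w ∈ centW, ev Lp w ∈ K0 := fun w hw =>
    Subgroup.subset_closure (List.mem_map.mpr ⟨w, hw, rfl⟩)
  have hrev : ∀ w ∈ centW ++ centW.map List.reverse, ev Lp w ∈ K0 := by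
    intro w hw
    rcases List.mem_append.mp hw with hw | hw
    · exact hmem w hw
    · obtain ⟨v, hv, rfl⟩ := List.mem_map.mp hw
      rw [ev_revP]
      exact inv_mem (hmem v hv)
  have hI : ∀ ws : List (List Nat), ∀ w ∈ ws.map flatI, ev Lp w ∈ K0 := by
    intro ws w hw
    obtain ⟨v, -, rfl⟩ := List.mem_map.mp hw
    clear hw
    induction v with
    | nil => simp [flatI]
    | cons x v ih =>
      simp only [flatI, List.flatMap_cons, ev_append]
      refine mul_mem ?_ ih
      rcases lt_or_ge x (centW ++ centW.map List.reverse).length with hx | hx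
      · rw [List.getD_eq_getElem _ _ hx]; exact hrev _ (List.getElem_mem hx)
      · rw [List.getD_eq_default _ _ hx, ev_nil]; exact one_mem _
  have h3 : 1 ≤ Nat.card (K0 ⊓ baseStab ρ [(10 : Fin 416), 18, 13] : Subgroup P) := Nat.card_pos
  have h2 := orbit_step_in matches_ρ K0 (base := [(10 : Fin 416), 18]) (β := 13) (m := 3) (dm := 2)
    (gens := C2I.map flatI) (P := C2P) (Inv := C2Inv)
    (by decide +kernel) (len_Lp.symm ▸ flat_letters.2.2) (by decide +kernel) (hI _) h3
  have h1 := orbit_step_in matches_ρ K0 (base := [(10 : Fin 416)]) (β := 18) (m := 64) (dm := 6)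
    (gens := C1I.map flatI) (P := C1P) (Inv := C1Inv)
    (by decide +kernel) (len_Lp.symm ▸ flat_letters.2.1) (by decide +kernel) (hI _) h2
  have h0 := orbit_step_in matches_ρ K0 (base := []) (β := 10) (m := 320) (dm := 9)
    (gens := C0I.map flatI) (P := C0P) (Inv := C0Inv)
    (by decide +kernel) (len_Lp.symm ▸ flat_letters.1) (by decide +kernel) (hI _) h1
  simpa [baseStab] using h0

end CfsgLib.Coset.G24.Schur
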