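import Cfsg.Agent.Coset.G24.Schur.Upper
import Cfsg.Agent.Coset.G24.Chev
import Cfsg.Agent.DMult.StemBound
import Cfsg.Agent.PrimeGraphG24.FieldIso

/-! The multiplier of the group of type G₂ over four elements. -/

set_option autoImplicit false
set_option maxRecDepth 100000
set_option Elab.async false

namespace CfsgLib.Coset.G24.Schur

open CfsgLib.Coset G24

universe u

/-- The covering map. -/
noncomputable def τ : P5 →* P := numHom len_Ln ev_rels5

theorem τ_surjective : Function.Surjective τ := by
  rw [← MonoidHom.range_eq_top, τ, range_numHom, closure_Ln]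

theorem z_check : sameB (expW zW) [] = true := by decide +kernel

theorem card_ker : Nat.card τ.ker = 2 := by
  have := card_le5.1
  have h : Nat.card τ.ker * Nat.card P = Nat.card P5 := by
    rw [← τ.ker.card_mul_index, Subgroup.index_ker, MonoidHom.range_eq_top.mpr τ_surjective,
      Subgroup.card_top]
  rw [card_and_injective.1] at h
  have hle : Nat.card τ.ker ≤ 2 := by have := card_le5.2; omega
  have hz : ev L5 zW ∈ τ.ker := by
    rw [MonoidHom.mem_ker, τ, show numHom len_Ln ev_rels5 (ev L5 zW) = ev Ln zW from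
      numHom_ev len_Ln _ zW, ev_Ln, sameB_eq z_check, ev_nil]
  have hnt : Nontrivial τ.ker :=
    ⟨⟨_, hz⟩, 1, fun e => zW_ne (congrArg Subtype.val e)⟩
  have : 1 < Nat.card τ.ker := Finite.one_lt_card_iff_nontrivial.mpr hnt
  exact le_antisymm hle this

theorem ker_central : τ.ker ≤ Subgroup.center P5 := by
  have := card_le5.1
  intro x hx
  refine Subgroup.mem_center_iff.mpr fun y => ?_
  by_cases h1 : x = 1
  · rw [h1, mul_one, one_mul]
  have hy : y * x * y⁻¹ ∈ τ.ker := MonoidHom.normal_ker τ |>.conj_mem x hx y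
  have hy1 : y * x * y⁻¹ ≠ 1 := fun e => h1 (conj_eq_one_iff.mp e)
  obtain ⟨a, b, -, hab⟩ := Nat.card_eq_two_iff.mp card_ker
  have hmem : ∀ z : τ.ker, z = a ∨ z = b := fun z => by
    simpa using (hab ▸ Set.mem_univ z : z ∈ ({a, b} : Set τ.ker))
  have e : (⟨_, hy⟩ : τ.ker) = ⟨x, hx⟩ := by
    rcases hmem ⟨_, hy⟩ with e1 | e1 <;> rcases hmem ⟨x, hx⟩ with e2 | e2 <;>
      rcases hmem 1 with e3 | e3
    all_goals first
      | exact e1.trans e2.symm
      | exact absurd (congrArg Subtype.val (e1.trans e3.symm)) hy1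
      | exact absurd (congrArg Subtype.val (e2.trans e3.symm)) h1
  exact mul_inv_eq_iff_eq_mul.mp (congrArg Subtype.val e)

/-- Pairs of conjugates making relators which join the generators. -/
def joins : List ((List Nat × Nat) × (List Nat × Nat)) :=
  [(([0], 1), ([1], 0)), (([0, 2], 0), ([2, 0], 2)), (([0], 3), ([3], 0)), (([0], 4), ([4], 0))]

theorem joins_mem : joins.all (fun e => rels5.contains (tpW e.1 ++ tpW e.2)) = true ∧
    rels5.contains (lineW triL) = true ∧ triL.map Prod.snd = [0, 2, 0] := by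
  refine ⟨?_, ?_, ?_⟩ <;> decide +kernel

theorem perfect : commutator P5 = ⊤ := by
  set f : P5 →* Abelianization P5 := Abelianization.of
  have hsq : ∀ l, f (fl L5 l) * f (fl L5 l) = 1 := fun l => by rw [← map_mul, sq_L5, map_one]
  have hrev : ∀ w, ev L5 w.reverse = (ev L5 w)⁻¹ := fun w => by
    induction w with
    | nil => simp
    | cons k w ih =>
      rw [List.reverse_cons, ev_append, ih, ev_cons, ev_cons, ev_nil, mul_one, mul_inv_rev,
        inv_eq_of_mul_eq_one_right (sq_L5 k)]
  have htp : ∀ p : List Nat × Nat, f (ev L5 (tpW p)) = f (fl L5 p.2) := fun p => by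
    rw [tpW, ev_append, ev_append, hrev, ev_cons, ev_nil, mul_one, map_mul, map_mul, map_inv,
      mul_comm (f (ev L5 p.1)), mul_inv_cancel_right]
  obtain ⟨hj, htri, hsnd⟩ := joins_mem
  have hedge : ∀ e ∈ joins, f (fl L5 e.1.2) = f (fl L5 e.2.2) := by
    intro e he
    have h := congrArg f (show ev L5 (tpW e.1 ++ tpW e.2) = 1 from
      ev_numGens (k := 5) _ (List.contains_iff_mem.mp (List.all_eq_true.mp hj e he)))
    rw [ev_append, map_mul, htp, htp, map_one] at h
    calc f (fl L5 e.1.2) = f (fl L5 e.1.2) * (f (fl L5 e.2.2) * f (fl L5 e.2.2)) := by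
          rw [hsq, mul_one]
      _ = f (fl L5 e.2.2) := by rw [← mul_assoc, h, one_mul]
  have hall : ∀ l < 5, f (fl L5 l) = f (fl L5 0) := by
    intro l hl
    interval_cases l
    · rfl
    · exact hedge (([0], 1), ([1], 0)) (by simp [joins])
    · exact (hedge (([0, 2], 0), ([2, 0], 2)) (by simp [joins])).symm
    · exact hedge (([0], 3), ([3], 0)) (by simp [joins])
    · exact hedge (([0], 4), ([4], 0)) (by simp [joins])
  have hline : ∀ L : List (List Nat × Nat), (∀ l ∈ L.map Prod.snd, l < 5) →
      f (ev L5 (lineW L)) = f (fl L5 0) ^ L.length := by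
    intro L
    induction L with
    | nil => intro _; simp [lineW]
    | cons p L ih =>
      intro h
      rw [show lineW (p :: L) = tpW p ++ lineW L from List.flatMap_cons, ev_append, map_mul, htp,
        hall p.2 (h p.2 (by simp)), ih fun l hl => h l (by simp only [List.map_cons, List.mem_cons]; exact Or.inr hl),
        List.length_cons, pow_succ']
  have h1 : f (fl L5 0) = 1 := by
    have e := hline triL (by rw [hsnd]; decide)
    rw [show ev L5 (lineW triL) = 1 from ev_numGens _ (List.contains_iff_mem.mp htri), map_one,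
      tri_checks.1, pow_succ, pow_two, hsq, one_mul] at e
    exact e.symm
  rw [eq_top_iff]
  rintro x -
  rw [← Abelianization.ker_of, MonoidHom.mem_ker]
  have hx : x ∈ Subgroup.closure {y | y ∈ L5} := closure_numGens ▸ Subgroup.mem_top x
  induction hx using Subgroup.closure_induction with
  | mem y hy =>
    obtain ⟨l, hl, rfl⟩ := List.getElem_of_mem hy
    rw [← List.getD_eq_getElem L5 1 hl]
    exact (hall l (len_L5 ▸ hl)).trans h1
  | one => exact map_one f
  | mul a b _ _ ha hb => exact (map_mul f a b).trans ((congrArg₂ (· * ·) ha hb).trans (one_mul _))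
  | inv a _ ha => exact (map_inv f a).trans ((congrArg Inv.inv ha).trans inv_one)

/-- The multiplier. -/
theorem multiplier {F : Type u} [Field F] [Fintype F] (hF4 : Fintype.card F = 4) :
    Cfsg.HasCyclicSchurMultiplier (Cfsg.Lie.chevG2.group F) 2 := by
  have := card_le5.1
  haveI : Fact (Nat.Prime 2) := ⟨Nat.prime_two⟩
  let r : F4 ≃+* F := FiniteField.ringEquivOfCardEq (K := F4) (K' := F) (by rw [F4.card_eq, hF4])
  obtain ⟨e1⟩ := G24.nonempty_equiv
  obtain ⟨e2⟩ := Cfsg.Agent.PrimeGraphG24.nonempty_group_equiv Cfsg.Lie.chevG2 r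
  let e : P ≃* Cfsg.Lie.chevG2.group F := e1.trans e2
  let j : ULift.{u} P5 ≃* P5 := MulEquiv.ulift
  let τ' : ULift.{u} P5 →* Cfsg.Lie.chevG2.group F := (e.toMonoidHom.comp τ).comp j.toMonoidHom
  have mem : ∀ {x}, x ∈ τ'.ker ↔ j x ∈ τ.ker := fun {x} => by
    rw [MonoidHom.mem_ker, MonoidHom.mem_ker]
    exact e.map_eq_one_iff
  let ke : τ'.ker ≃* τ.ker :=
    { toFun := fun x => ⟨j x.1, mem.mp x.2⟩
      invFun := fun y => ⟨j.symm y.1, mem.mpr (by rw [j.apply_symm_apply]; exact y.2)⟩
      left_inv := fun x => Subtype.ext (j.symm_apply_apply x.1)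
      right_inv := fun y => Subtype.ext (j.apply_symm_apply y.1)
      map_mul' := fun x y => Subtype.ext (map_mul j x.1 y.1) }
  haveI : IsCyclic τ.ker := isCyclic_of_prime_card card_ker
  have kA : τ.ker ≃* Multiplicative (ZMod 2) :=
    mulEquivOfCyclicCardEq (by rw [card_ker, Nat.card_congr Multiplicative.toAdd, Nat.card_zmod])
  refine CfsgLib.DMult.hasSchurMultiplier_of_bound τ' ((e.surjective.comp τ_surjective).comp j.surjective)
    (fun x hx => Subgroup.mem_center_iff.mpr fun y => j.injective (by
      rw [map_mul, map_mul, Subgroup.mem_center_iff.mp (ker_central (mem.mp hx)) (j y)])) ?_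
    (fun E _ _ π hπ hπc hE => ?_) (ke.trans kA)
  · rw [_root_.commutator_def, ← Subgroup.map_top_of_surjective j.symm.toMonoidHom j.symm.surjective,
      ← Subgroup.map_commutator, ← _root_.commutator_def, perfect]
  · let π' : E →* P := e.symm.toMonoidHom.comp π
    have hk : π'.ker = π.ker := MonoidHom.ker_mulEquiv_comp π e.symm
    have h2 := card_ker_le_two (σ := π') (e.symm.surjective.comp hπ) (hk.le.trans hπc) hE
    rw [← hk, Nat.card_congr ke.toEquiv, card_ker]
    exact h2

end CfsgLib.Coset.G24.Schur
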