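import Cfsg.Agent.Coset.Blocks
import Cfsg.Agent.Coset.Table
import Cfsg.Agent.Coset.G24.Schur.Data
import Cfsg.Agent.Coset.G24.Schur.TopData

set_option autoImplicit false
set_option maxRecDepth 100000
set_option Elab.async false

namespace CfsgLib.Coset.G24.Schur.Top

theorem hrels4 : belowBlock 10 8064 (relsAt Tb rels5) 4 = true := by decide +kernel
theorem hrels5 : belowBlock 10 8064 (relsAt Tb rels5) 5 = true := by decide +kernel

end CfsgLib.Coset.G24.Schur.Top
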