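import Cfsg.Agent.Coset.G24.Schur.TopSteps0
import Cfsg.Agent.Coset.G24.Schur.TopSteps1
import Cfsg.Agent.Coset.G24.Schur.TopRels0
import Cfsg.Agent.Coset.G24.Schur.TopRels1
import Cfsg.Agent.Coset.G24.Schur.TopRels2
import Cfsg.Agent.Coset.G24.Schur.TopRels3
import Mathlib.Tactic.IntervalCases

set_option autoImplicit false
set_option maxRecDepth 100000
set_option Elab.async false

namespace CfsgLib.Coset.G24.Schur.Top

theorem hR : checkRules rels5 subs R = true := by decide +kernel
theorem hdefs : checkDefs E 5 14 15524 = true := by decide +kernel
theorem hsteps : checkChunks E id R 5 (7 + 2) 15524 476 C = true :=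
  checkChunks_of_blocks (by decide +kernel) fun b hb => by
    have : b < 4 := hb
    interval_cases b
    · exact hsteps0
    · exact hsteps1
    · exact hsteps2
    · exact hsteps3

theorem htable : checkTable E id (15524 + chunk * 476) 8064 5 13 3 Rep Ref Tb = true := by decide +kernel
theorem hperm : checkPerm id 8064 5 13 3 Tb = true := by decide +kernel
theorem hrels : checkRels 8064 (10 + 3) Tb rels5 = true :=
  checkRels_of_blocks (by decide +kernel) fun b hb => by
    have : b < 8 := hb
    interval_cases b
    · exact hrels0
    · exact hrels1
    · exact hrels2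
    · exact hrels3
    · exact hrels4
    · exact hrels5
    · exact hrels6
    · exact hrels7


end CfsgLib.Coset.G24.Schur.Top
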