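import Cfsg.Agent.Coset.Presented
import Cfsg.Agent.Coset.G24.Schur.Data
import Cfsg.Agent.Coset.G24.Schur.A5
import Cfsg.Agent.Coset.G24.Schur.U
import Cfsg.Agent.Coset.G24.Schur.Top

/-!
The group on five involutions presented by the relators: its order is at most twice that of the
group of type G₂ over four elements, and it acts on 8064 points.
-/

set_option autoImplicit false
set_option maxRecDepth 100000
set_option Elab.async false

namespace CfsgLib.Coset.G24.Schur

open CfsgLib.Coset

/-- The presented group. -/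
abbrev P5 : Type := NumGr 5 rels5

/-- Its generators. -/
noncomputable def L5 : List P5 := numGens 5 rels5

theorem len_L5 : (L5).length = 5 := length_numGens

theorem sq_L5 (x : Nat) : fl L5 x * fl L5 x = 1 := sq_numGens (by decide +kernel) x

theorem level5 {S S' : List Nat} {rs subs : List (List Nat)} {E Rep Tb : Nat → Nat}
    {R : Tr (List Nat × Nat)} {d d' N nC n dn dk : Nat} {C Ref : Nat → Nat} (k : Nat)
    (hk : S.length = k)
    (hc : checkLevel rels5 5 S S' rs subs = true)
    (hR : checkRules rs subs R = true) (hd : checkDefs E k d' N = true)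
    (hs : checkChunks E id R k d N nC C = true)
    (ht : checkTable E id (N + chunk * nC) n k dn dk Rep Ref Tb = true) :
    TableOK (lv L5 S) (genBy L5 S') E id n Rep Tb := by
  have hl : (lv L5 S).length = k := by simp [lv, hk]
  exact tableOK_of_check (inv_lv sq_L5 S) hR (hl.symm ▸ hd) (hl.symm ▸ hs) (hl.symm ▸ ht)
    (level_rels len_L5 hc ev_numGens) (level_subs len_L5 hc)

theorem card_le5 : Finite P5 ∧ Nat.card P5 ≤ 503193600 := by
  have c0 : checkLevel rels5 5 [0, 1, 2, 3, 4] [0, 1, 2, 3] rels5 Top.subs = true := by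
    decide +kernel
  have c1 : checkLevel rels5 5 [0, 1, 2, 3] [0, 1, 2] U.lrels U.subs = true := by decide +kernel
  have c2 : checkLevel rels5 5 [0, 1, 2] [] A5.lrels A5.subs = true := by decide +kernel
  have h2 := level_card (level5 3 rfl c2 A5.hR A5.hdefs A5.hsteps A5.htable) (by decide) c2
    card_genBy_nil
  have h1 := level_card (level5 4 rfl c1 U.hR U.hdefs U.hsteps U.htable) (by decide) c1 h2
  have h0 := level_card (level5 5 rfl c0 Top.hR Top.hdefs Top.hsteps Top.htable) (by decide) c0 h1
  have htop : genBy L5 [0, 1, 2, 3, 4] = ⊤ := by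
    have := genBy_range (L := L5) closure_numGens
    rwa [len_L5] at this
  rw [htop] at h0
  obtain ⟨hf, hc⟩ := h0
  rw [Subgroup.card_top] at hc
  exact ⟨Finite.of_equiv _ Subgroup.topEquiv.toEquiv, hc.trans (by norm_num)⟩

theorem len_sig5 : (sigList Top.hperm).length = 5 := by simp [sigList]

theorem perm_rels5 : ∀ w ∈ rels5, ev (sigList Top.hperm) w = 1 :=
  ev_sigList_eq_one Top.hperm Top.hrels (by decide +kernel)

/-- The action on 8064 points. -/
noncomputable def ρ5 : P5 →* Equiv.Perm (Fin 8064) := numHom len_sig5 perm_rels5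

theorem matches_ρ5 : Matches L5 ρ5 Top.Tb := by
  intro l hl i
  rw [ρ5, L5, numHom_fl, fl_sigList, sig_symm_apply Top.hperm (len_L5 ▸ hl)]

theorem zW_move : checkLetters 5 [zW] = true ∧
    Nat.beq (follow (tget Top.Tb) 0 zW) 0 = false := by
  constructor <;> decide +kernel

theorem zW_ne : ev L5 zW ≠ 1 := by
  intro h
  obtain ⟨h1, h2⟩ := zW_move
  have := matches_ρ5.follow_eq zW ⟨0, by decide⟩
    (fun l hl => len_L5.symm ▸ letters_lt h1 _ (List.mem_singleton_self _) l hl)
  rw [h, map_one, inv_one, Equiv.Perm.one_apply] at this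
  rw [← this] at h2
  exact Bool.noConfusion h2

end CfsgLib.Coset.G24.Schur
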