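import Cfsg.Agent.Coset.G24.Schur.Group
import Cfsg.Agent.Coset.G24.Schur.Pres
import Mathlib.GroupTheory.Abelianization.Defs
import Mathlib.Tactic.Group

/-!
In a perfect central extension of the group of type G₂ over four elements the lifts of the root
involutions are rigid, and suitably normalised they satisfy all the relators, so the kernel has
order at most two.
-/

set_option autoImplicit false
set_option maxRecDepth 100000
set_option Elab.async false

namespace CfsgLib.Coset.G24.Schur

open CfsgLib.Coset G24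
open scoped commutatorElement

universe u

/-- A conjugate, as a word in the five involutions. -/
def tpW (p : List Nat × Nat) : List Nat := p.1 ++ [p.2] ++ p.1.reverse

/-- A product of conjugates, as a word. -/
def lineW (L : List (List Nat × Nat)) : List Nat := L.flatMap tpW

/-- An odd palindrome as a conjugate. -/
def palP (h : List Nat) : List Nat × Nat := (h.take (h.length / 2), h.getD (h.length / 2) 0)

/-- A word is the product of two equal conjugates. -/
noncomputable def isPair (w : List Nat) : Bool :=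
  (List.range w.length).any fun k =>
    (w == tpW (palP (w.take k)) ++ tpW (palP (w.drop k))) &&
    (Nat.blt (palP (w.take k)).2 5 && (Nat.blt (palP (w.drop k)).2 5 &&
      sameB (expW (tpW (palP (w.take k)))) (expW (tpW (palP (w.drop k))))))

theorem rels_shape : rels5.all (fun w => w == lineW triL || isPair w) = true := by decide +kernel

theorem tri_checks : triL.length = 3 ∧ allList (fun p => Nat.blt p.2 5) triL = true ∧
    sameB (expW (lineW triL)) [] = true ∧
    allList (fun p => allList (fun q =>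
      sameB (expW (tpW p ++ tpW q)) (expW (tpW q ++ tpW p))) triL) triL = true := by
  refine ⟨?_, ?_, ?_, ?_⟩ <;> decide +kernel

theorem conj5_check : allBelow 3 5 (fun l =>
    sameB (conj5.getD l [] ++ [0] ++ (conj5.getD l []).reverse) (newW.getD l [])) = true := by
  decide +kernel

theorem ev_revN (w : List Nat) : ev Ln w.reverse = (ev Ln w)⁻¹ := by
  induction w with
  | nil => simp
  | cons k w ih =>
    rw [List.reverse_cons, ev_append, ih, ev_cons, ev_cons, ev_nil, mul_one, mul_inv_rev,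
      inv_eq_of_mul_eq_one_right (sq_Ln k)]

theorem ev_tpW (p : List Nat × Nat) : ev Ln (tpW p) = ev Ln p.1 * fl Ln p.2 * (ev Ln p.1)⁻¹ := by
  rw [tpW, ev_append, ev_append, ev_revN, ev_cons, ev_nil, mul_one]

theorem fl_Ln_eq {l : Nat} (hl : l < 5) :
    fl Ln l = ev Lp (conj5.getD l []) * t * (ev Lp (conj5.getD l []))⁻¹ := by
  have e := sameB_eq (of_allBelow conj5_check l hl)
  rw [ev_append, ev_append, ev_revP, ev_cons, ev_nil, mul_one] at e
  rw [e, fl, Ln, ← ev_nil (L := Lp), List.getD_map]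

/-- The centraliser of the involution is the subgroup generated by the commutators. -/
theorem centralizer_eq : Subgroup.centralizer ({t} : Set P) = K0 := by
  have := card_le.1
  obtain ⟨hlen, hlet, hchk, h4⟩ := comm_checks
  symm
  refine Subgroup.eq_of_le_of_card_ge ?_ ?_
  · rw [K0, Subgroup.closure_le]
    intro x hx
    obtain ⟨w, hw, rfl⟩ := List.mem_map.mp hx
    obtain ⟨k, hk, rfl⟩ := List.getElem_of_mem hw
    obtain ⟨ha, h⟩ := cond_false_eq_true.mp (of_allBelow hchk k (h4 ▸ hk))
    obtain ⟨hb, hab⟩ := cond_false_eq_true.mp h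
    have ea := sameB_eq ha
    have eb := sameB_eq hb
    have e := sameB_eq hab
    simp only [ev_append, ev_revP, ev_cons, ev_nil, mul_one] at ea eb e
    rw [List.getD_eq_getElem centW [] hk] at e
    rw [← e]
    have ca := Subgroup.mem_centralizer_singleton_iff.mpr (show _ = t * _ from ea)
    have cb := Subgroup.mem_centralizer_singleton_iff.mpr (show _ = t * _ from eb)
    exact mul_mem (mul_mem (mul_mem ca cb) (inv_mem ca)) (inv_mem cb)
  · have h1 := Subgroup.card_mul_index (Subgroup.centralizer ({t} : Set P))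
    rw [card_and_injective.1] at h1
    have h2 := Nat.mul_le_mul_left (Nat.card (Subgroup.centralizer ({t} : Set P))) index_centralizer
    rw [h1] at h2
    have := card_K0
    omega

variable {Γ : Type u} [Group Γ] {σ : Γ →* P}

theorem central_of_ker (hc : σ.ker ≤ Subgroup.center Γ) {z : Γ} (hz : σ z = 1) (y : Γ) :
    y * z = z * y := Subgroup.mem_center_iff.mp (hc (MonoidHom.mem_ker.mpr hz)) y

/-- The commutator of a lift with the chosen lift. -/
def zc (T g : Γ) : Γ := g * T * g⁻¹ * T⁻¹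

theorem zc_mul {T g h : Γ} (hh : ∀ y, y * zc T h = zc T h * y) :
    zc T (g * h) = zc T h * zc T g := by
  calc zc T (g * h) = g * (zc T h * T) * g⁻¹ * T⁻¹ := by unfold zc; group
    _ = g * zc T h * (T * g⁻¹ * T⁻¹) := by group
    _ = zc T h * g * (T * g⁻¹ * T⁻¹) := by rw [hh g]
    _ = zc T h * zc T g := by unfold zc; group

theorem zc_central (hc : σ.ker ≤ Subgroup.center Γ) {T g : Γ} (hT : σ T = t)
    (hg : σ g * t = t * σ g) (y : Γ) : y * zc T g = zc T g * y := by
  refine central_of_ker hc ?_ y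
  rw [zc, map_mul, map_mul, map_mul, map_inv, map_inv, hT, hg]
  group

/-- Lifts of elements centralising the involution centralise its lift. -/
theorem lift_fixes (hs : Function.Surjective σ) (hc : σ.ker ≤ Subgroup.center Γ) {T : Γ}
    (hT : σ T = t) {g : Γ} (hg : σ g * t = t * σ g) : g * T = T * g := by
  set D := Subgroup.centralizer ({T} : Set Γ)
  have fix : ∀ {a b : Γ}, σ a * t = t * σ a → σ b * t = t * σ b → a * b * a⁻¹ * b⁻¹ ∈ D := by
    intro a b ha hb
    have hai : σ a⁻¹ * t = t * σ a⁻¹ := by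
      rw [map_inv]
      calc (σ a)⁻¹ * t = (σ a)⁻¹ * (t * σ a) * (σ a)⁻¹ := by group
        _ = t * (σ a)⁻¹ := by rw [← ha]; group
    have hbi : σ b⁻¹ * t = t * σ b⁻¹ := by
      rw [map_inv]
      calc (σ b)⁻¹ * t = (σ b)⁻¹ * (t * σ b) * (σ b)⁻¹ := by group
        _ = t * (σ b)⁻¹ := by rw [← hb]; group
    have za := zc_central hc hT ha
    have zb := zc_central hc hT hb
    have zai := zc_central hc hT hai
    have zbi := zc_central hc hT hbi
    have one : zc T (1 : Γ) = 1 := by unfold zc; group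
    have ea : zc T a * zc T a⁻¹ = 1 := by rw [← zc_mul za, inv_mul_cancel, one]
    have eb : zc T b * zc T b⁻¹ = 1 := by rw [← zc_mul zb, inv_mul_cancel, one]
    have h : zc T (a * b * a⁻¹ * b⁻¹) = 1 := by
      rw [zc_mul zbi, zc_mul zai, zc_mul zb]
      calc zc T b⁻¹ * (zc T a⁻¹ * (zc T b * zc T a))
          = zc T b⁻¹ * (zc T a⁻¹ * zc T b) * zc T a := by group
        _ = zc T b⁻¹ * (zc T b * zc T a⁻¹) * zc T a := by rw [zb (zc T a⁻¹)]
        _ = (zc T b⁻¹ * zc T b) * (zc T a⁻¹ * zc T a) := by group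
        _ = 1 := by rw [zb (zc T b⁻¹), eb, za (zc T a⁻¹), ea, one_mul]
    rw [Subgroup.mem_centralizer_singleton_iff]
    unfold zc at h
    rwa [mul_inv_eq_one, mul_inv_eq_iff_eq_mul] at h
  obtain ⟨hlen, hlet, hchk, h4⟩ := comm_checks
  have hD : K0 ≤ D.map σ := by
    rw [K0, Subgroup.closure_le]
    intro x hx
    obtain ⟨w, hw, rfl⟩ := List.mem_map.mp hx
    obtain ⟨k, hk, rfl⟩ := List.getElem_of_mem hw
    obtain ⟨ha, h⟩ := cond_false_eq_true.mp (of_allBelow hchk k (h4 ▸ hk))
    obtain ⟨hb, hab⟩ := cond_false_eq_true.mp h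
    have ea := sameB_eq ha
    have eb := sameB_eq hb
    have e := sameB_eq hab
    simp only [ev_append, ev_revP, ev_cons, ev_nil, mul_one] at ea eb e
    obtain ⟨a, hA⟩ := hs (ev Lp (commL.getD k ([], [])).1)
    obtain ⟨b, hB⟩ := hs (ev Lp (commL.getD k ([], [])).2)
    refine ⟨a * b * a⁻¹ * b⁻¹, fix (hA ▸ ea) (hB ▸ eb), ?_⟩
    rw [map_mul, map_mul, map_mul, map_inv, map_inv, hA, hB, e, List.getD_eq_getElem centW [] hk]
  obtain ⟨d, hd, he⟩ := hD (centralizer_eq ▸ Subgroup.mem_centralizer_singleton_iff.mpr hg)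
  have hk : σ (d⁻¹ * g) = 1 := by rw [map_mul, map_inv, he, inv_mul_cancel]
  calc g * T = d * ((d⁻¹ * g) * T) := by group
    _ = d * (T * (d⁻¹ * g)) := by rw [central_of_ker hc hk T]
    _ = (d * T) * (d⁻¹ * g) := by group
    _ = T * g := by rw [Subgroup.mem_centralizer_singleton_iff.mp hd]; group

/-- The conjugates of a lift. -/
def Hat (T Y : Γ) : Prop := ∃ u : Γ, Y = u * T * u⁻¹

theorem Hat.conj {T Y : Γ} (hY : Hat T Y) (u : Γ) : Hat T (u * Y * u⁻¹) := by
  obtain ⟨v, rfl⟩ := hY
  exact ⟨u * v, by group⟩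

theorem Hat.unique (hs : Function.Surjective σ) (hc : σ.ker ≤ Subgroup.center Γ) {T Y Z : Γ}
    (hT : σ T = t) (hY : Hat T Y) (hZ : Hat T Z) (h : σ Y = σ Z) : Y = Z := by
  obtain ⟨a, rfl⟩ := hY
  obtain ⟨b, rfl⟩ := hZ
  have hg : σ (b⁻¹ * a) * t = t * σ (b⁻¹ * a) := by
    rw [← hT]
    simp only [map_mul, map_inv] at h ⊢
    calc (σ b)⁻¹ * σ a * σ T = (σ b)⁻¹ * (σ a * σ T * (σ a)⁻¹) * σ a := by group
      _ = σ T * ((σ b)⁻¹ * σ a) := by rw [h]; group
  have := lift_fixes hs hc hT hg
  calc a * T * a⁻¹ = b * ((b⁻¹ * a) * T) * a⁻¹ := by group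
    _ = b * T * b⁻¹ := by rw [this]; group

theorem Hat.sq_eq (hc : σ.ker ≤ Subgroup.center Γ) {T Y : Γ} (hT : σ T = t) (hY : Hat T Y) :
    Y * Y = T * T := by
  obtain ⟨u, rfl⟩ := hY
  calc u * T * u⁻¹ * (u * T * u⁻¹) = u * (T * T) * u⁻¹ := by group
    _ = T * T := by
      rw [central_of_ker hc (by rw [map_mul, hT]; exact sq_all 0) u, mul_inv_cancel_right]

theorem Hat.comm (hs : Function.Surjective σ) (hc : σ.ker ≤ Subgroup.center Γ) {T Y Z : Γ}
    (hT : σ T = t) (hZ : Hat T Z) (h : σ Y * σ Z = σ Z * σ Y) : Y * Z = Z * Y := by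
  have := (hZ.conj Y).unique hs hc hT hZ (by rw [map_mul, map_mul, map_inv, h]; group)
  calc Y * Z = Y * Z * Y⁻¹ * Y := by group
    _ = Z * Y := by rw [this]

/-- The chosen conjugator. -/
noncomputable def up (hs : Function.Surjective σ) (p : List Nat × Nat) : Γ :=
  Function.surjInv hs (ev Ln p.1 * ev Lp (conj5.getD p.2 []))

/-- The chosen lift of a conjugate. -/
noncomputable def hatP (hs : Function.Surjective σ) (T : Γ) (p : List Nat × Nat) : Γ :=
  up hs p * T * (up hs p)⁻¹

theorem hatP_spec (hs : Function.Surjective σ) {T : Γ} (hT : σ T = t) {p : List Nat × Nat}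
    (hp : p.2 < 5) : Hat T (hatP hs T p) ∧ σ (hatP hs T p) = ev Ln (tpW p) := by
  refine ⟨⟨_, rfl⟩, ?_⟩
  rw [hatP, map_mul, map_mul, map_inv, up, Function.surjInv_eq hs, hT, ev_tpW, fl_Ln_eq hp]
  group

theorem hatP_mul (hs : Function.Surjective σ) (T : Γ) {w : Γ} (hw : ∀ y, y * w = w * y)
    (p : List Nat × Nat) : hatP hs (T * w) p = hatP hs T p * w := by
  calc up hs p * (T * w) * (up hs p)⁻¹ = up hs p * T * (w * (up hs p)⁻¹) := by group
    _ = up hs p * T * ((up hs p)⁻¹ * w) := by rw [hw]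
    _ = hatP hs T p * w := by unfold hatP; group

theorem prod_sq {s : Γ} (hsc : ∀ y : Γ, y * s = s * y) : ∀ l : List Γ,
    (∀ x ∈ l, x * x = s) → (∀ x ∈ l, ∀ y ∈ l, x * y = y * x) →
      l.prod * l.prod = s ^ l.length
  | [], _, _ => by simp
  | x :: l, h, hc => by
    have hxp : Commute x l.prod :=
      Commute.list_prod_right l x fun y hy => hc x (by simp) y (by simp [hy])
    have ih := prod_sq hsc l (fun y hy => h y (by simp [hy]))
      (fun y hy z hz => hc y (by simp [hy]) z (by simp [hz]))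
    rw [List.prod_cons, List.length_cons, pow_succ']
    calc x * l.prod * (x * l.prod) = x * (l.prod * x) * l.prod := by group
      _ = (x * x) * (l.prod * l.prod) := by rw [← hxp.eq]; group
      _ = s * s ^ l.length := by rw [h x (by simp), ih]

theorem prod_mul_central {A : Type*} {w : Γ} (hw : ∀ y, y * w = w * y) (f : A → Γ) :
    ∀ l : List A, (l.map fun a => f a * w).prod = (l.map f).prod * w ^ l.length
  | [] => by simp
  | a :: l => by
    rw [List.map_cons, List.prod_cons, prod_mul_central hw f l, List.map_cons, List.prod_cons,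
      List.length_cons, pow_succ']
    calc f a * w * ((l.map f).prod * w ^ l.length)
        = f a * (w * (l.map f).prod) * w ^ l.length := by group
      _ = f a * ((l.map f).prod * w) * w ^ l.length := by rw [hw]
      _ = f a * (l.map f).prod * (w * w ^ l.length) := by group

theorem tri_facts (hs : Function.Surjective σ) (hc : σ.ker ≤ Subgroup.center Γ) {T : Γ}
    (hT : σ T = t) : σ (triL.map (hatP hs T)).prod = 1 ∧
      (triL.map (hatP hs T)).prod * (triL.map (hatP hs T)).prod = (T * T) ^ 3 := by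
  obtain ⟨hlen, hlt, hone, hcomm⟩ := tri_checks
  have hp : ∀ p ∈ triL, p.2 < 5 := fun p hp => Nat.blt_eq.mp (allList_iff.mp hlt p hp)
  refine ⟨?_, ?_⟩
  · have key : ∀ L : List (List Nat × Nat), (∀ p ∈ L, p.2 < 5) →
        σ (L.map (hatP hs T)).prod = ev Ln (lineW L) := by
      intro L
      induction L with
      | nil => intro _; simp [lineW]
      | cons p L ih =>
        intro h
        rw [List.map_cons, List.prod_cons, map_mul, (hatP_spec hs hT (h p (by simp))).2,
          ih fun q hq => h q (by simp [hq])]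
        simp [lineW, ev_append]
    rw [key triL hp, ev_Ln, sameB_eq hone, ev_nil]
  · rw [prod_sq (fun y => central_of_ker hc (by rw [map_mul, hT]; exact sq_all 0) y),
      List.length_map, hlen]
    · intro x hx
      obtain ⟨p, hpm, rfl⟩ := List.mem_map.mp hx
      exact (hatP_spec hs hT (hp p hpm)).1.sq_eq hc hT
    · intro x hx y hy
      obtain ⟨p, hpm, rfl⟩ := List.mem_map.mp hx
      obtain ⟨q, hqm, rfl⟩ := List.mem_map.mp hy
      refine Hat.comm hs hc hT (hatP_spec hs hT (hp q hqm)).1 ?_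
      rw [(hatP_spec hs hT (hp p hpm)).2, (hatP_spec hs hT (hp q hqm)).2, ← ev_append, ← ev_append,
        ev_Ln, ev_Ln]
      exact sameB_eq (allList_iff.mp (allList_iff.mp hcomm p hpm) q hqm)

/-- A normalised lift of the involution. -/
theorem exists_normal (hs : Function.Surjective σ) (hc : σ.ker ≤ Subgroup.center Γ) :
    ∃ T : Γ, σ T = t ∧ T * T = 1 ∧ (triL.map (hatP hs T)).prod = 1 := by
  obtain ⟨T, hT⟩ := hs t
  obtain ⟨hP, hPP⟩ := tri_facts hs hc hT
  set s := T * T with hs'
  set p := (triL.map (hatP hs T)).prod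
  have hsk : σ s = 1 := by rw [hs', map_mul, hT]; exact sq_all 0
  set w := p * (s ^ 2)⁻¹ with hw
  have hwk : σ w = 1 := by rw [hw, map_mul, map_inv, map_pow, hP, hsk]; simp
  have hwc := central_of_ker hc hwk
  have hsq : T * w * (T * w) = 1 := by
    have hps : Commute p (s ^ 2)⁻¹ :=
      ((show Commute p s from central_of_ker hc hsk p).pow_right 2).inv_right
    calc T * w * (T * w) = T * (w * T) * w := by group
      _ = s * (w * w) := by rw [← hwc T, hs']; group
      _ = s * (p * ((s ^ 2)⁻¹ * p) * (s ^ 2)⁻¹) := by rw [hw]; group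
      _ = s * (p * p * ((s ^ 2)⁻¹ * (s ^ 2)⁻¹)) := by rw [← hps.eq]; group
      _ = 1 := by rw [hPP]; group
  set T1 := T * w with hT1
  have hT1' : σ T1 = t := by rw [hT1, map_mul, hT, hwk, mul_one]
  obtain ⟨hQ, hQQ⟩ := tri_facts hs hc hT1'
  rw [hsq, one_pow] at hQQ
  set e := (triL.map (hatP hs T1)).prod with he
  have hec := central_of_ker hc hQ
  refine ⟨T1 * e, by rw [map_mul, hT1', hQ, mul_one], ?_, ?_⟩
  · calc T1 * e * (T1 * e) = T1 * (e * T1) * e := by group
      _ = T1 * T1 * (e * e) := by rw [← hec T1]; group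
      _ = 1 := by rw [hsq, hQQ, one_mul]
  · rw [show hatP hs (T1 * e) = fun p => hatP hs T1 p * e from funext (hatP_mul hs T1 hec),
      prod_mul_central hec, tri_checks.1, ← he, ← pow_succ', show (3 + 1 : ℕ) = 2 * 2 from rfl,
      pow_mul, pow_two e, hQQ, one_pow]

/-- Lifts satisfying all relators. -/
theorem exists_lifts (hs : Function.Surjective σ) (hc : σ.ker ≤ Subgroup.center Γ) :
    ∃ X : List Γ, X.length = 5 ∧ (∀ l, σ (fl X l) = fl Ln l) ∧ ∀ w ∈ rels5, ev X w = 1 := by
  obtain ⟨T, hT, hT2, htri⟩ := exists_normal hs hc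
  set X : List Γ := List.ofFn fun l : Fin 5 => hatP hs T ([], l.val) with hX
  have hlen : X.length = 5 := by simp [hX]
  have hfl : ∀ l, l < 5 → fl X l = hatP hs T ([], l) := fun l hl => by
    rw [fl, hX, List.getD_eq_getElem _ _ (by simpa using hl), List.getElem_ofFn]
  have himg : ∀ l, σ (fl X l) = fl Ln l := fun l => by
    rcases lt_or_ge l 5 with hl | hl
    · rw [hfl l hl, (hatP_spec hs hT hl).2]
      simp [tpW]
    · rw [fl_of_le _ (hlen.symm ▸ hl), fl_of_le _ (len_Ln.symm ▸ hl), map_one]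
  have hmap : ∀ w, σ (ev X w) = ev Ln w := fun w => by
    induction w with
    | nil => simp
    | cons l w ih => rw [ev_cons, ev_cons, map_mul, ih, himg]
  have hsqX : ∀ l, fl X l * fl X l = 1 := fun l => by
    rcases lt_or_ge l 5 with hl | hl
    · rw [hfl l hl, (hatP_spec hs hT hl).1.sq_eq hc hT, hT2]
    · rw [fl_of_le _ (hlen.symm ▸ hl), one_mul]
  have hrevX : ∀ w, ev X w.reverse = (ev X w)⁻¹ := fun w => by
    induction w with
    | nil => simp
    | cons k w ih =>
      rw [List.reverse_cons, ev_append, ih, ev_cons, ev_cons, ev_nil, mul_one, mul_inv_rev,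
        inv_eq_of_mul_eq_one_right (hsqX k)]
  have htp : ∀ p : List Nat × Nat, p.2 < 5 → ev X (tpW p) = hatP hs T p := fun p hp => by
    have e : ev X (tpW p) = ev X p.1 * fl X p.2 * (ev X p.1)⁻¹ := by
      rw [tpW, ev_append, ev_append, hrevX, ev_cons, ev_nil, mul_one]
    refine Hat.unique hs hc hT ?_ (hatP_spec hs hT hp).1
      (by rw [hmap, (hatP_spec hs hT hp).2])
    rw [e, hfl p.2 hp]
    exact (hatP_spec hs hT (p := (([] : List Nat), p.2)) hp).1.conj _
  have hline : ∀ L : List (List Nat × Nat), (∀ p ∈ L, p.2 < 5) →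
      ev X (lineW L) = (L.map (hatP hs T)).prod := by
    intro L
    induction L with
    | nil => intro _; simp [lineW]
    | cons p L ih =>
      intro h
      rw [List.map_cons, List.prod_cons, ← htp p (h p (by simp)),
        ← ih fun q hq => h q (by simp [hq])]
      simp [lineW, ev_append]
  refine ⟨X, hlen, himg, fun w hw => ?_⟩
  have h := List.all_eq_true.mp rels_shape w hw
  rcases Bool.or_eq_true_iff.mp h with h | h
  · rw [eq_of_beq h, hline triL (fun p hp => Nat.blt_eq.mp (allList_iff.mp tri_checks.2.1 p hp)),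
      htri]
  · obtain ⟨k, -, h⟩ := List.any_eq_true.mp h
    simp only [Bool.and_eq_true, Nat.blt_eq] at h
    obtain ⟨he, ha, hb, hab⟩ := h
    have e := sameB_eq hab
    rw [← ev_Ln, ← ev_Ln] at e
    rw [eq_of_beq he, ev_append, htp _ ha, htp _ hb,
      (hatP_spec hs hT ha).1.unique hs hc hT (hatP_spec hs hT hb).1
        (by rw [(hatP_spec hs hT ha).2, (hatP_spec hs hT hb).2, e]),
      (hatP_spec hs hT hb).1.sq_eq hc hT, hT2]

/-- A perfect central extension has kernel of order at most two. -/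
theorem card_ker_le_two [Finite Γ] (hs : Function.Surjective σ) (hc : σ.ker ≤ Subgroup.center Γ)
    (hp : commutator Γ = ⊤) : Nat.card σ.ker ≤ 2 := by
  obtain ⟨X, hlen, himg, hrel⟩ := exists_lifts hs hc
  let f : P5 →* Γ := numHom hlen hrel
  have hfl : ∀ l, σ (f (fl L5 l)) = fl Ln l := fun l => by
    rw [show f (fl L5 l) = fl X l from numHom_fl hlen hrel l, himg]
  have hsur : Function.Surjective (σ.comp f) := by
    rw [← MonoidHom.range_eq_top, eq_top_iff, ← closure_Ln, Subgroup.closure_le]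
    intro x hx
    obtain ⟨l, hl, rfl⟩ := List.getElem_of_mem hx
    exact ⟨fl L5 l, by rw [MonoidHom.comp_apply, hfl, fl, List.getD_eq_getElem _ _ hl]⟩
  have hdec : ∀ g : Γ, ∃ x, ∃ k ∈ Subgroup.center Γ, g = f x * k := fun g => by
    obtain ⟨x, hx⟩ := hsur (σ g)
    exact ⟨x, (f x)⁻¹ * g, hc (by
      rw [MonoidHom.mem_ker, map_mul, map_inv, show σ (f x) = σ g from hx, inv_mul_cancel]),
      by group⟩
  have htop : f.range = ⊤ := by
    rw [eq_top_iff, ← hp, _root_.commutator_def, Subgroup.commutator_le]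
    intro a _ b _
    obtain ⟨x, k, hk, rfl⟩ := hdec a
    obtain ⟨y, m, hm, rfl⟩ := hdec b
    refine ⟨⁅x, y⁆, ?_⟩
    rw [map_commutatorElement, commutatorElement_def, commutatorElement_def]
    have ck := Subgroup.mem_center_iff.mp hk
    have cm := Subgroup.mem_center_iff.mp hm
    symm
    calc f x * k * (f y * m) * (f x * k)⁻¹ * (f y * m)⁻¹
        = f x * (k * (f y * m)) * k⁻¹ * (f x)⁻¹ * m⁻¹ * (f y)⁻¹ := by group
      _ = f x * (f y * m * k) * k⁻¹ * (f x)⁻¹ * m⁻¹ * (f y)⁻¹ := by rw [ck (f y * m)]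
      _ = f x * f y * (m * (f x)⁻¹) * m⁻¹ * (f y)⁻¹ := by group
      _ = f x * f y * ((f x)⁻¹ * m) * m⁻¹ * (f y)⁻¹ := by rw [cm (f x)⁻¹]
      _ = f x * f y * (f x)⁻¹ * (f y)⁻¹ := by group
  have := card_le5.1
  have h1 : Nat.card Γ ≤ 503193600 :=
    (Nat.card_le_card_of_surjective f (MonoidHom.range_eq_top.mp htop)).trans card_le5.2
  have h2 : Nat.card σ.ker * Nat.card P = Nat.card Γ := by
    rw [← σ.ker.card_mul_index, Subgroup.index_ker, MonoidHom.range_eq_top.mpr hs, Subgroup.card_top]
  rw [card_and_injective.1] at h2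
  omega

end CfsgLib.Coset.G24.Schur
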